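import Groth.Agent.ExtShX.Horrocks
import Groth.Agent.ExtShX.PnLocal
import Groth.Agent.S10829
import Groth.Agent.S2928
import Groth.Agent.Chevalley.CommAff.Finite
import Groth.Agent.Lib.CurveBundle
import Groth.Agent.Lib.InvEnd
import Groth.Agent.P1Split.Main
import Groth.Agent.PlanarExt.Basic
import Groth.Agent.Alg6.AssDepth

/-!
# Ranks of sums of line bundles, free bundles on a point, and vanishing of very negative twists
-/

set_option backward.isDefEq.respectTransparency false
set_option backward.isDefEq.respectTransparency.types false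

universe u

open CategoryTheory CategoryTheory.Limits AlgebraicGeometry TopologicalSpace

noncomputable section

namespace Groth.Agent.HorrX

attribute [local instance] MvPolynomial.gradedAlgebra

open Groth.Agent.CurveBundle in
theorem sigma_lineBundles {X : Scheme.{u}} [IsIntegral X] : ∀ (r : ℕ) (L : Fin r → X.Modules),
    (∀ i, PicF.IsInvertible (L i)) → FlatMod.IsFinLocFree (∐ L) ∧ rk (∐ L) = r
  | 0, L, _ => by
    have h0 : FlatMod.IsFinLocFreeOfRank 0 (∐ L) :=
      fun x => ⟨⊤, trivial, ⟨IsZero.iso ((Scheme.Modules.restrictFunctor (⊤ : X.Opens).ι).map_isZero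
        ((IsZero.iff_id_eq_zero _).2 (Sigma.hom_ext _ _ fun i => i.elim0)))
        ((IsZero.iff_id_eq_zero _).2 (Sigma.hom_ext _ _ fun i => i.elim0))⟩⟩
    exact ⟨fun x => let ⟨U, hx, he⟩ := h0 x; ⟨U, 0, hx, he⟩, rk_eq h0⟩
  | r + 1, L, hL => by
    obtain ⟨hf, hr⟩ := sigma_lineBundles r (fun i => L i.succ) fun i => hL _
    have h1 := InvEnd.isFinLocFreeOfRank_one (hL 0)
    have hfA : FlatMod.IsFinLocFree (L 0) := fun x => let ⟨U, hx, he⟩ := h1 x; ⟨U, 1, hx, he⟩
    have hb := KFlatLib.isFinLocFree_biprod hfA hf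
    let e := P1Split.consIso L
    have hS : (ShortComplex.mk (biprod.inl ≫ e.hom) (e.inv ≫ biprod.snd) (by simp)).ShortExact :=
      ShortComplex.shortExact_of_iso
        (ShortComplex.isoMk (S₁ := ShortComplex.mk (biprod.inl : L 0 ⟶ L 0 ⊞ (∐ fun i : Fin r => L i.succ)) biprod.snd (by simp))
          (Iso.refl _) e (Iso.refl _) (by simp) (by simp))
        (ShortComplex.Splitting.ofHasBinaryBiproduct (L 0) (∐ fun i : Fin r => L i.succ)).shortExact
    have hfin := (fun x => let ⟨U, n, hx, ⟨g⟩⟩ := hb x; ⟨U, n, hx, ⟨(Scheme.Modules.restrictFunctor U.ι).mapIso e.symm ≪≫ g⟩⟩ : FlatMod.IsFinLocFree (∐ L))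
    refine ⟨hfin, ?_⟩
    haveI := QCoh.finite_stalk_of_isFT (QCoh.isQCoh_of_isFinLocFree hfin)
      (QCoh.isFT_of_isFP (QCoh.isFP_of_isFinLocFree hfin)) (genericPoint X)
    rw [rk_add' _ _ _ hS inferInstance, rk_eq h1, hr, add_comm]

/-- A bundle on a one-point scheme is free. -/
theorem nonempty_iso_free {X : Scheme.{u}} [Subsingleton X] [Nonempty X] {r : ℕ} {E : X.Modules}
    (hE : FlatMod.IsFinLocFreeOfRank r E) : Nonempty (E ≅ FlatMod.freeMod X r) := by
  obtain ⟨U, hxU, ⟨e⟩⟩ := hE (Classical.arbitrary X)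
  obtain rfl : U = ⊤ := top_le_iff.1 fun y _ => Subsingleton.elim (Classical.arbitrary X) y ▸ hxU
  let j := X.topIso.inv
  refine ⟨((Scheme.Modules.restrictFunctorId (X := X)).app E).symm ≪≫
    (Scheme.Modules.restrictFunctorCongr X.topIso.inv_hom_id).symm.app E ≪≫
    (Scheme.Modules.restrictFunctorComp j (⊤ : X.Opens).ι).app E ≪≫
    (Scheme.Modules.restrictFunctor j).mapIso e ≪≫
    PreservesCoproduct.iso (Scheme.Modules.restrictFunctor j) _ ≪≫
    Sigma.mapIso fun _ => Scheme.Modules.restrictUnitIso j⟩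

theorem subsingleton_pn_zero (k : Type u) [Field k] : Subsingleton ↥(CohB1.ProjSpace 0 k) := by
  haveI := ExtShX.irreducibleSpace_pn (k := k) (r := 0)
  exact Chevalley.CommAff.subsingleton_of_krullDim_zero (by simpa using S10829.result k 0)

/-- Sections of very negative twists of a bundle on `P^n`, `n ≥ 1`, vanish. -/
theorem subsingleton_H0_twist_neg (k : Type u) [Field k] (n : ℕ) (hn : 1 ≤ n)
    {E : (CohB1.ProjSpace n k).Modules} (hEf : FlatMod.IsFinLocFree E) :
    ∃ m₀ : ℤ, ∀ m : ℤ, m ≤ m₀ →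
      Subsingleton (Coh.HH (CohB1.ProjSpace n k) (CohB1.tensorMod E (Twist.twistProjSpace n k m)) 0) := by
  haveI := ExtShX.isLocallyNoetherian_pn (k := k) (r := n)
  haveI := H23.PnChart.isIntegral_projSpace n k
  have hE : Coh.IsCoh E := CurveDeg.isCoh_of_isFinLocFree hEf
  obtain ⟨m₀, hm⟩ := (S2928.result k n E hE 0).2 (fun x hx => by
    haveI := QCoh.free_stalk_of_isFinLocFree hEf x
    haveI := QCoh.finite_stalk_of_isFT hE.1 hE.2 x
    rw [Nat.cast_zero]
    refine lt_of_lt_of_le zero_lt_one (b := (1 : ℕ∞)) ?_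
    let R := (CohB1.ProjSpace n k).presheaf.stalk x
    have hR : ¬ IsField R := fun hF => by
      have h := ExtShX.ringKrullDim_stalk_pn (k := k) (r := n) hx
      rw [ringKrullDim_eq_zero_of_isField hF] at h
      have : (0 : ℕ) = n := by exact_mod_cast h
      omega
    obtain ⟨a, ha, ha0⟩ := Submodule.exists_mem_ne_zero_of_ne_bot
      (fun h => hR ((IsLocalRing.isField_iff_maximalIdeal_eq).2 h))
    refine PlanarExt.one_le_depth_of_regular ha ?_
    intro p q hpq
    exact (smul_right_injective _ ha0) hpq)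
  refine ⟨-m₀, fun m hm' => ?_⟩
  have := hm (-m) (by omega) 0 le_rfl
  rwa [neg_neg] at this

end Groth.Agent.HorrX
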